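import Groth.Agent.Cohder.KZDevissage
import Mathlib.Algebra.Homology.DerivedCategory.ExactFunctor
import Mathlib.CategoryTheory.Triangulated.Yoneda

/-!
# Five lemma and truncation dévissage for the maps `Hom(P, K⟦q⟧) → Hom(F P, F (K⟦q⟧))`

`F : D(A) ⥤ D(B)` a triangulated functor, `P : D(A)`.
* `MapBij F P L`, `MapInj F P L`, `MapSurj F P L` : bijectivity, ... of `F.map : (P ⟶ L) → (F P ⟶ F L)`.
* `inj_of_triangle`, `surj_of_triangle`: the two four lemmas.
* `Comp F P m K`: bijective for `K⟦q⟧`, `q ≤ m`, injective for `K⟦m + 1⟧`.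
  `Comp.of_triangle`, `Comp.of_iso`, `comp_of_isGE`, `comp_shift`.
* `comp_of_homology`: for `K` bounded below, `Comp F P m K` follows from `Comp F P (m - i) (H^i(K)[0])`.
-/

set_option autoImplicit false
universe w w' v v' u u'
open CategoryTheory CategoryTheory.Limits

namespace Groth.Agent.Etbc.H181.HyperDev

open Pretriangulated

section Abs

variable {C : Type u} [Category.{v} C] {D : Type u'} [Category.{v'} D]

/-- Injectivity of `F` on maps `P ⟶ L`. -/
def MapInj (F : C ⥤ D) (P L : C) : Prop := Function.Injective (F.map : (P ⟶ L) → (F.obj P ⟶ F.obj L))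

/-- Surjectivity of `F` on maps `P ⟶ L`. -/
def MapSurj (F : C ⥤ D) (P L : C) : Prop := Function.Surjective (F.map : (P ⟶ L) → (F.obj P ⟶ F.obj L))

variable {F : C ⥤ D} {P L L' : C}

theorem MapInj.of_iso (e : L ≅ L') (h : MapInj F P L) : MapInj F P L' := by
  intro x y hxy
  have h1 : F.map (x ≫ e.inv) = F.map (y ≫ e.inv) := by rw [F.map_comp, F.map_comp, hxy]
  exact (cancel_mono e.inv).1 (h h1)

theorem MapSurj.of_iso (e : L ≅ L') (h : MapSurj F P L) : MapSurj F P L' := by
  intro y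
  obtain ⟨x, hx⟩ := h (y ≫ F.map e.inv)
  refine ⟨x ≫ e.hom, ?_⟩
  rw [F.map_comp, hx, Category.assoc, ← F.map_comp, e.inv_hom_id, F.map_id, Category.comp_id]

theorem mapInj_iff_of_iso (e : L ≅ L') : MapInj F P L ↔ MapInj F P L' :=
  ⟨fun h => h.of_iso e, fun h => h.of_iso e.symm⟩

theorem mapSurj_iff_of_iso (e : L ≅ L') : MapSurj F P L ↔ MapSurj F P L' :=
  ⟨fun h => h.of_iso e, fun h => h.of_iso e.symm⟩

theorem MapInj.of_iso_left {P' : C} (e : P ≅ P') (h : MapInj F P L) : MapInj F P' L := by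
  intro x y hxy
  have h1 : F.map (e.hom ≫ x) = F.map (e.hom ≫ y) := by rw [F.map_comp, F.map_comp, hxy]
  exact (cancel_epi e.hom).1 (h h1)

theorem MapSurj.of_iso_left {P' : C} (e : P ≅ P') (h : MapSurj F P L) : MapSurj F P' L := by
  intro y
  obtain ⟨x, hx⟩ := h (F.map e.hom ≫ y)
  refine ⟨e.inv ≫ x, ?_⟩
  rw [F.map_comp, hx, ← Category.assoc, ← F.map_comp, e.inv_hom_id, F.map_id, Category.id_comp]

theorem mapInj_iff_of_iso_left {P' : C} (e : P ≅ P') : MapInj F P L ↔ MapInj F P' L :=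
  ⟨fun h => h.of_iso_left e, fun h => h.of_iso_left e.symm⟩

theorem mapSurj_iff_of_iso_left {P' : C} (e : P ≅ P') : MapSurj F P L ↔ MapSurj F P' L :=
  ⟨fun h => h.of_iso_left e, fun h => h.of_iso_left e.symm⟩

section shift

variable [HasShift C ℤ] [HasShift D ℤ] [F.CommShift ℤ]

theorem map_shift (q : ℤ) (g : P ⟶ L) : F.map (g⟦q⟧') =
    (F.commShiftIso q).hom.app P ≫ (F.map g)⟦q⟧' ≫ (F.commShiftIso q).inv.app L := by
  have h := (F.commShiftIso q).hom.naturality g
  dsimp only [Functor.comp_map] at h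
  rw [← reassoc_of% h, Iso.hom_inv_id_app]
  exact (Category.comp_id _).symm

theorem MapInj.shift (h : MapInj F P L) (q : ℤ) : MapInj F (P⟦q⟧) (L⟦q⟧) := by
  intro x y hxy
  obtain ⟨x, rfl⟩ := (shiftFunctor C q).map_surjective x
  obtain ⟨y, rfl⟩ := (shiftFunctor C q).map_surjective y
  rw [map_shift, map_shift, cancel_epi, cancel_mono] at hxy
  rw [h ((shiftFunctor D q).map_injective hxy)]

theorem MapSurj.shift (h : MapSurj F P L) (q : ℤ) : MapSurj F (P⟦q⟧) (L⟦q⟧) := by
  intro y
  obtain ⟨z, hz⟩ := (shiftFunctor D q).map_surjective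
    ((F.commShiftIso q).inv.app P ≫ y ≫ (F.commShiftIso q).hom.app L)
  obtain ⟨x, hx⟩ := h z
  refine ⟨x⟦q⟧', ?_⟩
  rw [map_shift, hx, hz]
  simp

/-- Moving a shift to the source. -/
theorem mapInj_shift_iff (q : ℤ) : MapInj F P (L⟦q⟧) ↔ MapInj F (P⟦(-q)⟧) L := by
  constructor
  · intro h
    exact (h.shift (-q)).of_iso ((shiftFunctorCompIsoId C q (-q) (by lia)).app L)
  · intro h
    exact (h.shift q).of_iso_left ((shiftFunctorCompIsoId C (-q) q (by lia)).app P)

/-- Moving a shift to the source. -/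
theorem mapSurj_shift_iff (q : ℤ) : MapSurj F P (L⟦q⟧) ↔ MapSurj F (P⟦(-q)⟧) L := by
  constructor
  · intro h
    exact (h.shift (-q)).of_iso ((shiftFunctorCompIsoId C q (-q) (by lia)).app L)
  · intro h
    exact (h.shift q).of_iso_left ((shiftFunctorCompIsoId C (-q) q (by lia)).app P)

end shift

variable [Preadditive C] [HasZeroObject C] [HasShift C ℤ] [∀ n : ℤ, (shiftFunctor C n).Additive]
  [Pretriangulated C] [Preadditive D] [HasZeroObject D] [HasShift D ℤ]
  [∀ n : ℤ, (shiftFunctor D n).Additive] [Pretriangulated D]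
  (F) [F.CommShift ℤ] [F.IsTriangulated]

include F in
/-- First four lemma. -/
theorem inj_of_triangle (P : C) (T : Triangle C) (hT : T ∈ distTriang C)
    (h1 : MapInj F P T.obj₁) (h3 : MapInj F P T.obj₃) (h3' : MapSurj F P (T.obj₃⟦(-1 : ℤ)⟧)) :
    MapInj F P T.obj₂ := by
  have hF : F.Additive := inferInstance
  have key : ∀ x : P ⟶ T.obj₂, F.map x = 0 → x = 0 := by
    intro x hx
    have e1 : x ≫ T.mor₂ = 0 := by
      apply h3
      rw [F.map_comp, hx, zero_comp, F.map_zero]
    obtain ⟨y, rfl⟩ := T.coyoneda_exact₂ hT x e1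
    have hT' := inv_rot_of_distTriang T hT
    have hFT' := F.map_distinguished _ hT'
    obtain ⟨w, hw⟩ : ∃ w : T.obj₃⟦(-1 : ℤ)⟧ ⟶ T.obj₁, w = T.invRotate.mor₁ := ⟨_, rfl⟩
    have e5 : w ≫ T.mor₁ = 0 := by
      rw [hw]
      exact comp_distTriang_mor_zero₁₂ _ hT'
    obtain ⟨z', hz'⟩ : ∃ z' : F.obj P ⟶ F.obj (T.obj₃⟦(-1 : ℤ)⟧), F.map y = z' ≫ F.map w := by
      rw [hw]
      exact Triangle.coyoneda_exact₂ _ hFT' (F.map y) (by
        refine Eq.trans ?_ hx
        exact (F.map_comp _ _).symm)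
    obtain ⟨z, hz⟩ := h3' z'
    have e4 : y = z ≫ w := by
      apply h1
      rw [hz', F.map_comp, hz]
    rw [e4, Category.assoc, e5, comp_zero]
  intro x y hxy
  have := key (x - y) (by rw [F.map_sub, hxy, sub_self])
  exact sub_eq_zero.1 this

include F in
/-- Second four lemma. -/
theorem surj_of_triangle (P : C) (T : Triangle C) (hT : T ∈ distTriang C)
    (h1 : MapSurj F P T.obj₁) (h3 : MapSurj F P T.obj₃) (h1' : MapInj F P (T.obj₁⟦(1 : ℤ)⟧)) :
    MapSurj F P T.obj₂ := by
  have hF : F.Additive := inferInstance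
  intro y
  obtain ⟨z, hz⟩ := h3 (y ≫ F.map T.mor₂)
  have e1 : z ≫ T.mor₃ = 0 := by
    apply h1'
    rw [F.map_comp, hz, Category.assoc, ← F.map_comp, comp_distTriang_mor_zero₂₃ _ hT, F.map_zero,
      comp_zero, F.map_zero]
  obtain ⟨x₀, rfl⟩ := T.coyoneda_exact₃ hT z e1
  have hFT := F.map_distinguished _ hT
  have e2 : (y - F.map x₀) ≫ F.map T.mor₂ = 0 := by
    rw [Preadditive.sub_comp, ← F.map_comp, hz, sub_self]
  obtain ⟨u, hu⟩ : ∃ u : F.obj P ⟶ F.obj T.obj₁, y - F.map x₀ = u ≫ F.map T.mor₁ :=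
    Triangle.coyoneda_exact₂ _ hFT (y - F.map x₀) e2
  obtain ⟨v, hv⟩ := h1 u
  refine ⟨x₀ + v ≫ T.mor₁, ?_⟩
  rw [F.map_add, F.map_comp, hv, ← hu]
  abel

/-- The comparison condition: `F` is bijective on `Hom(P, K⟦q⟧)` for `q ≤ m` and injective
for `q = m + 1`. -/
structure Comp (P : C) (m : ℤ) (K : C) : Prop where
  inj : ∀ q : ℤ, q ≤ m + 1 → MapInj F P (K⟦q⟧)
  surj : ∀ q : ℤ, q ≤ m → MapSurj F P (K⟦q⟧)

variable {F}

omit [Preadditive C] [HasZeroObject C] [∀ n : ℤ, (shiftFunctor C n).Additive] [Pretriangulated C]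
  [Preadditive D] [HasZeroObject D] [∀ n : ℤ, (shiftFunctor D n).Additive] [Pretriangulated D]
  [F.CommShift ℤ] [F.IsTriangulated] [HasShift D ℤ] in
theorem Comp.of_iso {P : C} {m : ℤ} {K K' : C} (h : Comp F P m K) (e : K ≅ K') : Comp F P m K' where
  inj q hq := (h.inj q hq).of_iso ((shiftFunctor C q).mapIso e)
  surj q hq := (h.surj q hq).of_iso ((shiftFunctor C q).mapIso e)

omit [Preadditive C] [HasZeroObject C] [∀ n : ℤ, (shiftFunctor C n).Additive] [Pretriangulated C]
  [Preadditive D] [HasZeroObject D] [∀ n : ℤ, (shiftFunctor D n).Additive] [Pretriangulated D]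
  [F.CommShift ℤ] [F.IsTriangulated] [HasShift D ℤ] in
theorem Comp.of_iso_left {P P' : C} {m : ℤ} {K : C} (h : Comp F P m K) (e : P ≅ P') : Comp F P' m K where
  inj q hq := (h.inj q hq).of_iso_left e
  surj q hq := (h.surj q hq).of_iso_left e

omit [Preadditive C] [HasZeroObject C] [∀ n : ℤ, (shiftFunctor C n).Additive] [Pretriangulated C]
  [Preadditive D] [HasZeroObject D] [∀ n : ℤ, (shiftFunctor D n).Additive] [Pretriangulated D]
  [F.CommShift ℤ] [F.IsTriangulated] [HasShift D ℤ] in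
theorem Comp.shift {P : C} {m : ℤ} {K : C} (h : Comp F P m K) (a m' : ℤ) (hm : m' + a = m) :
    Comp F P m' (K⟦a⟧) where
  inj q hq := (h.inj (a + q) (by lia)).of_iso ((shiftFunctorAdd C a q).app K)
  surj q hq := (h.surj (a + q) (by lia)).of_iso ((shiftFunctorAdd C a q).app K)

omit [Preadditive C] [HasZeroObject C] [∀ n : ℤ, (shiftFunctor C n).Additive] [Pretriangulated C]
  [Preadditive D] [HasZeroObject D] [∀ n : ℤ, (shiftFunctor D n).Additive] [Pretriangulated D]
  [F.CommShift ℤ] [F.IsTriangulated] [HasShift D ℤ] in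
theorem Comp.mono {P : C} {m m' : ℤ} {K : C} (h : Comp F P m K) (hm : m' ≤ m) : Comp F P m' K where
  inj q hq := h.inj q (by lia)
  surj q hq := h.surj q (by lia)

/-- Stability under extensions. -/
theorem Comp.of_triangle {P : C} {m : ℤ} (T : Triangle C) (hT : T ∈ distTriang C)
    (h1 : Comp F P m T.obj₁) (h3 : Comp F P m T.obj₃) : Comp F P m T.obj₂ where
  inj q hq := by
    have hTq := Triangle.shift_distinguished T hT q
    exact inj_of_triangle F P _ hTq (h1.inj q hq) (h3.inj q hq)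
      ((h3.surj (q + (-1)) (by lia)).of_iso ((shiftFunctorAdd C q (-1)).app T.obj₃))
  surj q hq := by
    have hTq := Triangle.shift_distinguished T hT q
    exact surj_of_triangle F P _ hTq (h1.surj q hq) (h3.surj q hq)
      ((h1.inj (q + 1) (by lia)).of_iso ((shiftFunctorAdd C q 1).app T.obj₁))

end Abs

section Der

variable {A : Type u} [Category.{v} A] [Abelian A] [HasDerivedCategory.{w} A]
  {B : Type u'} [Category.{v'} B] [Abelian B] [HasDerivedCategory.{w'} B]
  {F : DerivedCategory A ⥤ DerivedCategory B} [F.CommShift ℤ] [F.IsTriangulated]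

open DerivedCategory

/-- All groups vanish below the range. -/
theorem map_of_isGE {P : DerivedCategory A} [P.IsLE 0] [(F.obj P).IsLE 0] {a : ℤ}
    {K : DerivedCategory A} [K.IsGE a] [(F.obj K).IsGE a] (q : ℤ) (hq : q < a) :
    MapInj F P (K⟦q⟧) ∧ MapSurj F P (K⟦q⟧) := by
  have h1 : ∀ x : P ⟶ K⟦q⟧, x = 0 := by
    intro x
    have h2 : (K⟦q⟧).IsGE (a - q) := TStructure.t.isGE_shift K a q (a - q) (by lia)
    exact TStructure.t.zero x 0 (a - q) (by lia)
  have h3 : ∀ x : F.obj P ⟶ F.obj (K⟦q⟧), x = 0 := by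
    intro x
    have h2 : ((F.obj K)⟦q⟧).IsGE (a - q) := TStructure.t.isGE_shift (F.obj K) a q (a - q) (by lia)
    let e : F.obj (K⟦q⟧) ≅ (F.obj K)⟦q⟧ := (F.commShiftIso q).app K
    have h4 : x ≫ e.hom = 0 := TStructure.t.zero _ 0 (a - q) (by lia)
    rwa [← cancel_mono e.hom, zero_comp]
  exact ⟨fun x y _ => by rw [h1 x, h1 y], fun y => ⟨0, by rw [h3 y, h3 (F.map 0)]⟩⟩

/-- Vanishing range. -/
theorem comp_of_isGE {P : DerivedCategory A} [P.IsLE 0] [(F.obj P).IsLE 0] {m a : ℤ}
    {K : DerivedCategory A} [K.IsGE a] [(F.obj K).IsGE a] (h : m + 2 ≤ a) : Comp F P m K where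
  inj q hq := (map_of_isGE (a := a) q (by lia)).1
  surj q hq := (map_of_isGE (a := a) q (by lia)).2

/-- `Comp` for an object placed in degree `i`. -/
theorem comp_single {P : DerivedCategory A} {m i : ℤ} {M : A}
    (h : Comp F P (m - i) ((singleFunctor A 0).obj M)) : Comp F P m ((singleFunctor A i).obj M) := by
  let e : (((singleFunctor A 0).obj M)⟦(-i)⟧) ≅ (singleFunctor A i).obj M :=
    ((singleFunctors A).shiftIso (-i) i 0 (by lia)).app M
  exact (h.shift (-i) m (by lia)).of_iso e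

/-- Truncation dévissage: for `K` bounded below and `F` left t-exact on the truncations of `K`, the comparison
condition for `K` in the range `m` follows from the comparison condition for the `H^i(K)` in the range `m - i`. -/
theorem comp_of_homology {P : DerivedCategory A} [P.IsLE 0] [(F.obj P).IsLE 0]
    (hF : ∀ (K : DerivedCategory A) (a : ℤ), K.IsGE a → (F.obj K).IsGE a) (m : ℤ)
    (K : DerivedCategory A) (a : ℤ) [hK : K.IsGE a]
    (h : ∀ i : ℤ, a ≤ i → i ≤ m + 1 →
      Comp F P (m - i) ((singleFunctor A 0).obj ((homologyFunctor A i).obj K))) :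
    Comp F P m K := by
  have key : ∀ (k : ℕ) (a : ℤ) (K : DerivedCategory A), K.IsGE a → m + 2 ≤ a + k →
      (∀ i : ℤ, a ≤ i → i ≤ m + 1 →
        Comp F P (m - i) ((singleFunctor A 0).obj ((homologyFunctor A i).obj K))) →
      Comp F P m K := by
    intro k
    induction k with
    | zero =>
      intro a K hK hm _
      have := hF K a hK
      exact comp_of_isGE (a := a) (by simpa using hm)
    | succ k ih =>
      intro a K hK hm h
      by_cases ha : m + 2 ≤ a
      · have := hF K a hK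
        exact comp_of_isGE (a := a) ha
      obtain ⟨X, Y, hX, hY, f, g, δ, hT⟩ := Cohder.KZDevissage.exists_trunc K a
      have hXa : X.IsGE a := Cohder.KZDevissage.trunc₁_isGE hT a a
      have hf : IsIso ((homologyFunctor A a).map f) := Cohder.KZDevissage.isIso_trunc₁ hT a a le_rfl
      obtain ⟨M, ⟨e⟩⟩ := exists_iso_singleFunctor_obj_of_isGE_of_isLE X a
      let eM : (homologyFunctor A a).obj K ≅ M := (asIso ((homologyFunctor A a).map f)).symm ≪≫
        (homologyFunctor A a).mapIso e ≪≫ (singleFunctorCompHomologyFunctorIso A a).app M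
      have h1 : Comp F P m X :=
        (comp_single ((h a le_rfl (by lia)).of_iso ((singleFunctor A 0).mapIso eM))).of_iso e.symm
      have h3 : Comp F P m Y := by
        refine ih (a + 1) Y hY (by push_cast at hm; lia) (fun i hi hi' => ?_)
        have := Cohder.KZDevissage.isIso_trunc₂ hT a i (by lia)
        exact (h i (by lia) hi').of_iso ((singleFunctor A 0).mapIso (asIso ((homologyFunctor A i).map g)))
      exact Comp.of_triangle _ hT h1 h3
  refine key ((m + 2 - a).toNat) a K hK ?_ h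
  have := Int.self_le_toNat (m + 2 - a)
  lia

end Der

end Groth.Agent.Etbc.H181.HyperDev
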