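import Groth.Agent.Etbc.H181.HyperPush

/-!
# `CompD` for single sheaves is the comparison of etale cohomology

* `compD_single_iff`: `CompD u m (F[0])` in terms of `EtCore.Hpull u F`.
* `compD_of_Hpull`: truncation dévissage in terms of `EtCore.Hpull u (H^i(K))`.
* `compD_single_of_compN`: from `EtAcyc.CompN`.
-/

set_option autoImplicit false
universe u

open CategoryTheory CategoryTheory.Limits Opposite AlgebraicGeometry Abelian

attribute [local instance] HasDerivedCategory.standard

namespace Groth.Agent.Etbc.H181.HyperEt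

open HyperDev HyperExt HyperPush DerivedCategory Groth.Agent.Etcore

section abs

universe w w' v v' u₁ u'

variable {C : Type u₁} [Category.{v} C] [Abelian C] {D : Type u'} [Category.{v'} D] [Abelian D]
  (F : C ⥤ D) [F.Additive] [PreservesFiniteLimits F] [PreservesFiniteColimits F]
  [HasExt.{w} C] [HasExt.{w'} D] {A : C} {A' : D}

theorem mk₀_comp_bijective (a : A' ⟶ F.obj A) [IsIso a] (B : D) (n : ℕ) :
    Function.Bijective (fun e : Ext.{w'} (F.obj A) B n => (Ext.mk₀ a).comp e (zero_add n)) := by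
  refine Function.bijective_iff_has_inverse.2
    ⟨fun e => (Ext.mk₀ (inv a)).comp e (zero_add n), fun e => ?_, fun e => ?_⟩
  · dsimp only
    rw [← Ext.comp_assoc_of_second_deg_zero, Ext.mk₀_comp_mk₀, IsIso.inv_hom_id, Ext.mk₀_id_comp]
  · dsimp only
    rw [← Ext.comp_assoc_of_second_deg_zero, Ext.mk₀_comp_mk₀, IsIso.hom_inv_id, Ext.mk₀_id_comp]

theorem extMap_injective_iff (a : A' ⟶ F.obj A) [IsIso a] (B : C) (n : ℕ) :
    Function.Injective (ExtMap.extMap.{w, w'} F a B n) ↔
      Function.Injective (Ext.mapExactFunctor F : Ext.{w} A B n → Ext.{w'} (F.obj A) (F.obj B) n) :=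
  (mk₀_comp_bijective F a (F.obj B) n).1.of_comp_iff (Ext.mapExactFunctor F)

theorem extMap_surjective_iff (a : A' ⟶ F.obj A) [IsIso a] (B : C) (n : ℕ) :
    Function.Surjective (ExtMap.extMap.{w, w'} F a B n) ↔
      Function.Surjective (Ext.mapExactFunctor F : Ext.{w} A B n → Ext.{w'} (F.obj A) (F.obj B) n) :=
  Function.Surjective.of_comp_iff' (mk₀_comp_bijective F a (F.obj B) n) (Ext.mapExactFunctor F)

end abs

variable {X Y Xb Yb : Scheme.{u}}

section inst
open scoped Groth.Agent.Etcore.EtInst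
open Groth.Agent.Etcore.EtInst

theorem compD_single_iff_hp (u : Y ⟶ X) (F : EtCoh.Ab X) (m : ℤ) :
    CompD u m (EtBC.single X F) ↔
      (∀ n : ℕ, (n : ℤ) ≤ m + 1 → Function.Injective (HpullCalc.hp u F n)) ∧
      (∀ n : ℕ, (n : ℤ) ≤ m → Function.Surjective (HpullCalc.hp u F n)) := by
  refine (comp_single_iff (EtCoh.pull u) (EtCoh.const X ℤ) F m).trans ?_
  refine and_congr (forall_congr' fun n => forall_congr' fun _ => ?_)
    (forall_congr' fun n => forall_congr' fun _ => ?_)
  · exact (extMap_injective_iff (EtCoh.pull u) (EtCore.pullConst u ℤ).inv F n).symm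
  · exact (extMap_surjective_iff (EtCoh.pull u) (EtCore.pullConst u ℤ).inv F n).symm

end inst

theorem compD_single_iff (u : Y ⟶ X) [PreservesFiniteLimits (EtCoh.pull u)] (F : EtCoh.Ab X) (m : ℤ) :
    CompD u m (EtBC.single X F) ↔
      (∀ n : ℕ, (n : ℤ) ≤ m + 1 → Function.Injective (EtCore.Hpull u F n)) ∧
      (∀ n : ℕ, (n : ℤ) ≤ m → Function.Surjective (EtCore.Hpull u F n)) :=
  compD_single_iff_hp u F m

/-- The case of `EtAcyc.CompN`-like conditions for one sheaf. -/
theorem compD_single_iff' (u : Y ⟶ X) [PreservesFiniteLimits (EtCoh.pull u)] (F : EtCoh.Ab X) (n : ℕ) :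
    CompD u n (EtBC.single X F) ↔
      (∀ q : ℕ, q ≤ n → Function.Bijective (EtCore.Hpull u F q)) ∧
        Function.Injective (EtCore.Hpull u F (n + 1)) := by
  rw [compD_single_iff]
  constructor
  · rintro ⟨h1, h2⟩
    exact ⟨fun q hq => ⟨h1 q (by lia), h2 q (by lia)⟩, h1 (n + 1) (by lia)⟩
  · rintro ⟨h1, h2⟩
    refine ⟨fun q hq => ?_, fun q hq => (h1 q (by lia)).2⟩
    rcases Nat.lt_or_ge n q with h | h
    · obtain rfl : q = n + 1 := by lia
      exact h2
    · exact (h1 q h).1

/-- Truncation dévissage for the cohomology of bounded below complexes of etale sheaves. -/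
theorem compD_of_homology (u : Y ⟶ X) (m : ℤ) (K : DCoh.DEt X) (a : ℤ) [K.IsGE a]
    (h : ∀ i : ℤ, a ≤ i → i ≤ m + 1 → CompD u (m - i) (EtBC.single X (DCoh.HDEt K i))) :
    CompD u m K := by
  have := isLE_mapDerivedCategory (EtCoh.pull u) (EtBC.single X (EtCoh.const X ℤ)) 0
  exact comp_of_homology (fun K a _ => isGE_mapDerivedCategory (EtCoh.pull u) K a) m K a h

/-- Truncation dévissage in terms of `EtCore.Hpull`. -/
theorem compD_of_Hpull (u : Y ⟶ X) [PreservesFiniteLimits (EtCoh.pull u)] (m : ℤ) (K : DCoh.DEt X)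
    (a : ℤ) [K.IsGE a]
    (h1 : ∀ (i : ℤ) (n : ℕ), a ≤ i → i + n ≤ m + 1 → Function.Injective (EtCore.Hpull u (DCoh.HDEt K i) n))
    (h2 : ∀ (i : ℤ) (n : ℕ), a ≤ i → i + n ≤ m → Function.Surjective (EtCore.Hpull u (DCoh.HDEt K i) n)) :
    CompD u m K :=
  compD_of_homology u m K a fun i hi _ => (compD_single_iff u _ (m - i)).2
    ⟨fun n hn => h1 i n hi (by lia), fun n hn => h2 i n hi (by lia)⟩

end Groth.Agent.Etbc.H181.HyperEt
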