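import Groth.Agent.Etbc.H181.HyperDev
import Groth.Agent.Etcore.ExtMap

/-!
# The comparison condition `Comp` and the maps on `Ext` groups

`E : A ⥤ B` exact, `P : A`.
* `mapInj_iff`, `mapSurj_iff`: `E.mapDerivedCategory` on `Hom(P[0], M[0]⟦n⟧)` versus `Ext.mapExactFunctor E`.
* `comp_single_iff`: `Comp E.mapDerivedCategory (P[0]) m (M[0])` in terms of Ext.
* `isGE_mapDerivedCategory`, `isLE_mapDerivedCategory`: t-exactness.
* `comp_of_ext`: truncation dévissage in terms of the groups `Ext^j(P, H^i(K))`.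
* `injective_hom_of_range`, `surjective_hom_of_range`: a map `φ : K ⟶ L` with `H^i(φ)` iso for `i < n`
  and mono for `i = n` induces an injection on `Hom(P, -⟦q⟧)` for `q ≤ n`, a surjection for `q < n`.
-/

set_option autoImplicit false
universe w w' t t' v v' u u'
open CategoryTheory CategoryTheory.Limits

namespace Groth.Agent.Etbc.H181.HyperExt

open Pretriangulated DerivedCategory Abelian HyperDev

variable {A : Type u} [Category.{v} A] [Abelian A] [HasDerivedCategory.{w} A]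
  {B : Type u'} [Category.{v'} B] [Abelian B] [HasDerivedCategory.{w'} B]
  (E : A ⥤ B) [E.Additive] [PreservesFiniteLimits E] [PreservesFiniteColimits E]

/-- The homology of `E.mapDerivedCategory.obj K`. -/
theorem nonempty_homology_iso (K : DerivedCategory A) (i : ℤ) :
    Nonempty ((homologyFunctor B i).obj (E.mapDerivedCategory.obj K) ≅
      E.obj ((homologyFunctor A i).obj K)) := by
  obtain ⟨T, ⟨e⟩⟩ : ∃ T : CochainComplex A ℤ, Nonempty (K ≅ Q.obj T) :=
      ⟨_, ⟨(Q.objObjPreimageIso K).symm⟩⟩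
  exact ⟨(homologyFunctor B i).mapIso (E.mapDerivedCategory.mapIso e ≪≫
    E.mapDerivedCategoryFactors.app T) ≪≫
    (homologyFunctorFactors B i).app ((E.mapHomologicalComplex (.up ℤ)).obj T) ≪≫
    (T.sc i).mapHomologyIso E ≪≫ E.mapIso (((homologyFunctorFactors A i).app T).symm ≪≫
      (homologyFunctor A i).mapIso e.symm)⟩

theorem isGE_mapDerivedCategory (K : DerivedCategory A) (a : ℤ) [K.IsGE a] :
    (E.mapDerivedCategory.obj K).IsGE a := by
  rw [isGE_iff]
  intro i hi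
  obtain ⟨e⟩ := nonempty_homology_iso E K i
  exact (E.map_isZero (isZero_of_isGE K a i hi)).of_iso e

theorem isLE_mapDerivedCategory (K : DerivedCategory A) (a : ℤ) [K.IsLE a] :
    (E.mapDerivedCategory.obj K).IsLE a := by
  rw [isLE_iff]
  intro i hi
  obtain ⟨e⟩ := nonempty_homology_iso E K i
  exact (E.map_isZero (isZero_of_isLE K a i hi)).of_iso e

section ext

variable (P M : A) (n : ℕ)

/-- Composition with the canonical isomorphisms. -/
noncomputable def psi : (E.mapDerivedCategory.obj ((singleFunctor A 0).obj P) ⟶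
      E.mapDerivedCategory.obj (((singleFunctor A 0).obj M)⟦(n : ℤ)⟧)) ≃
    ShiftedHom ((singleFunctor B 0).obj (E.obj P)) ((singleFunctor B 0).obj (E.obj M)) (n : ℤ) :=
  Iso.homCongr ((E.mapDerivedCategorySingleFunctor 0).app P)
    ((E.mapDerivedCategory.commShiftIso (n : ℤ)).app ((singleFunctor A 0).obj M) ≪≫
      (shiftFunctor _ (n : ℤ)).mapIso ((E.mapDerivedCategorySingleFunctor 0).app M))

/-- Negative degrees. -/
theorem map_neg (q : ℤ) (hq : q < 0) :
    MapInj E.mapDerivedCategory ((singleFunctor A 0).obj P) (((singleFunctor A 0).obj M)⟦q⟧) ∧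
      MapSurj E.mapDerivedCategory ((singleFunctor A 0).obj P) (((singleFunctor A 0).obj M)⟦q⟧) := by
  have := isLE_mapDerivedCategory E ((singleFunctor A 0).obj P) 0
  have := isGE_mapDerivedCategory E ((singleFunctor A 0).obj M) 0
  exact map_of_isGE (a := 0) q hq

variable [HasExt.{t} A] [HasExt.{t'} B]

theorem homEquiv_mapExactFunctor (e : Ext.{t} P M n) :
    Ext.homEquiv (e.mapExactFunctor E : Ext.{t'} (E.obj P) (E.obj M) n) =
      psi E P M n (E.mapDerivedCategory.map (Ext.homEquiv e)) := by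
  refine (Ext.mapExactFunctor_hom E e).trans ?_
  simp [psi, ShiftedHom.map, Iso.homCongr]

theorem mapInj_iff : MapInj E.mapDerivedCategory ((singleFunctor A 0).obj P)
      (((singleFunctor A 0).obj M)⟦(n : ℤ)⟧) ↔
    Function.Injective (Ext.mapExactFunctor E : Ext.{t} P M n → Ext.{t'} (E.obj P) (E.obj M) n) := by
  have h : (Ext.homEquiv : Ext.{t'} (E.obj P) (E.obj M) n ≃ _) ∘
      (Ext.mapExactFunctor E : Ext.{t} P M n → Ext.{t'} (E.obj P) (E.obj M) n) =
      psi E P M n ∘ E.mapDerivedCategory.map ∘ (Ext.homEquiv : Ext.{t} P M n ≃ _) := by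
    ext e
    exact homEquiv_mapExactFunctor E P M n e
  rw [← Equiv.comp_injective _ (Ext.homEquiv : Ext.{t'} (E.obj P) (E.obj M) n ≃ _), h,
    Equiv.comp_injective, Equiv.injective_comp]
  rfl

theorem mapSurj_iff : MapSurj E.mapDerivedCategory ((singleFunctor A 0).obj P)
      (((singleFunctor A 0).obj M)⟦(n : ℤ)⟧) ↔
    Function.Surjective (Ext.mapExactFunctor E : Ext.{t} P M n → Ext.{t'} (E.obj P) (E.obj M) n) := by
  have h : (Ext.homEquiv : Ext.{t'} (E.obj P) (E.obj M) n ≃ _) ∘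
      (Ext.mapExactFunctor E : Ext.{t} P M n → Ext.{t'} (E.obj P) (E.obj M) n) =
      psi E P M n ∘ E.mapDerivedCategory.map ∘ (Ext.homEquiv : Ext.{t} P M n ≃ _) := by
    ext e
    exact homEquiv_mapExactFunctor E P M n e
  rw [← Equiv.comp_surjective _ (Ext.homEquiv : Ext.{t'} (E.obj P) (E.obj M) n ≃ _), h,
    Equiv.comp_surjective, Equiv.surjective_comp]
  rfl

/-- The comparison condition for single objects, in terms of `Ext`. -/
theorem comp_single_iff (m : ℤ) :
    Comp E.mapDerivedCategory ((singleFunctor A 0).obj P) m ((singleFunctor A 0).obj M) ↔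
      (∀ n : ℕ, (n : ℤ) ≤ m + 1 →
        Function.Injective (Ext.mapExactFunctor E : Ext.{t} P M n → Ext.{t'} (E.obj P) (E.obj M) n)) ∧
      (∀ n : ℕ, (n : ℤ) ≤ m →
        Function.Surjective (Ext.mapExactFunctor E : Ext.{t} P M n → Ext.{t'} (E.obj P) (E.obj M) n)) := by
  constructor
  · intro h
    exact ⟨fun n hn => (mapInj_iff E P M n).1 (h.inj n hn), fun n hn => (mapSurj_iff E P M n).1 (h.surj n hn)⟩
  · rintro ⟨h1, h2⟩
    refine ⟨fun q hq => ?_, fun q hq => ?_⟩
    · by_cases hq' : q < 0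
      · exact (map_neg E P M q hq').1
      · obtain ⟨n, rfl⟩ := Int.eq_ofNat_of_zero_le (not_lt.1 hq')
        exact (mapInj_iff E P M n).2 (h1 n hq)
    · by_cases hq' : q < 0
      · exact (map_neg E P M q hq').2
      · obtain ⟨n, rfl⟩ := Int.eq_ofNat_of_zero_le (not_lt.1 hq')
        exact (mapSurj_iff E P M n).2 (h2 n hq)

end ext

/-- Truncation dévissage in terms of Ext groups. -/
theorem comp_of_ext [HasExt.{t} A] [HasExt.{t'} B] (P : A) (m : ℤ) (K : DerivedCategory A) (a : ℤ)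
    [K.IsGE a]
    (h1 : ∀ (i : ℤ) (n : ℕ), a ≤ i → i + n ≤ m + 1 → Function.Injective (Ext.mapExactFunctor E :
      Ext.{t} P ((homologyFunctor A i).obj K) n → Ext.{t'} (E.obj P) (E.obj ((homologyFunctor A i).obj K)) n))
    (h2 : ∀ (i : ℤ) (n : ℕ), a ≤ i → i + n ≤ m → Function.Surjective (Ext.mapExactFunctor E :
      Ext.{t} P ((homologyFunctor A i).obj K) n → Ext.{t'} (E.obj P) (E.obj ((homologyFunctor A i).obj K)) n)) :
    Comp E.mapDerivedCategory ((singleFunctor A 0).obj P) m K := by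
  have := isLE_mapDerivedCategory E ((singleFunctor A 0).obj P) 0
  refine comp_of_homology (fun K a _ => isGE_mapDerivedCategory E K a) m K a (fun i hi hi' => ?_)
  exact (comp_single_iff.{w, w', t, t'} E P _ (m - i)).2 ⟨fun n hn => h1 i n hi (by lia),
    fun n hn => h2 i n hi (by lia)⟩

section range

variable {P K L : DerivedCategory A} (φ : K ⟶ L) (n : ℤ)

omit [HasDerivedCategory.{w} A] in
theorem isGE_cone [HasDerivedCategory.{w} A] {K L : DerivedCategory A} (φ : K ⟶ L) (n : ℤ)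
    (h1 : ∀ i : ℤ, i < n → IsIso ((homologyFunctor A i).map φ))
    (h2 : Mono ((homologyFunctor A n).map φ)) {C : DerivedCategory A} (g : L ⟶ C) (δ : C ⟶ K⟦(1 : ℤ)⟧)
    (hT : Triangle.mk φ g δ ∈ distTriang (DerivedCategory A)) : C.IsGE n := by
  rw [isGE_iff]
  intro i hi
  have h3 : Epi ((homologyFunctor A i).map φ) := by
    have := h1 i hi
    infer_instance
  have h4 : Mono ((homologyFunctor A (i + 1)).map φ) := by
    by_cases hi' : i + 1 < n
    · have := h1 (i + 1) hi'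
      infer_instance
    · obtain rfl : n = i + 1 := by lia
      exact h2
  have h5 : (homologyFunctor A i).map g = 0 :=
    (HomologySequence.epi_homologyMap_mor₁_iff _ hT i).1 h3
  have h6 := (HomologySequence.mono_homologyMap_mor₁_iff _ hT i (i + 1) rfl).1 h4
  have h7 := HomologySequence.exact₃ _ hT i (i + 1) rfl
  have h8 := (ShortComplex.exact_iff_mono _ h5).1 h7
  exact @IsZero.of_mono_eq_zero _ _ _ _ _ _ h8 h6

omit [HasDerivedCategory.{w} A] in
/-- Exactness of `Hom(P, K⟦q⟧) → Hom(P, L⟦q⟧) → Hom(P, C⟦q⟧)` for a distinguished triangle. -/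
theorem exists_lift_shift [HasDerivedCategory.{w} A] {P K L C : DerivedCategory A} (φ : K ⟶ L)
    (g : L ⟶ C) (δ : C ⟶ K⟦(1 : ℤ)⟧)
    (hT : Triangle.mk φ g δ ∈ distTriang (DerivedCategory A)) (q : ℤ) (y : P ⟶ L⟦q⟧)
    (hy : y ≫ g⟦q⟧' = 0) : ∃ x : P ⟶ K⟦q⟧, x ≫ φ⟦q⟧' = y := by
  have hT' := Triangle.shift_distinguished _ hT q
  obtain ⟨x, hx⟩ : ∃ x : P ⟶ K⟦q⟧, y = x ≫ (q.negOnePow • φ⟦q⟧') :=
    Triangle.coyoneda_exact₂ _ hT' y (by
      change y ≫ (q.negOnePow • g⟦q⟧') = 0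
      rw [Linear.comp_units_smul, hy, smul_zero])
  refine ⟨q.negOnePow • x, ?_⟩
  rw [hx, Linear.comp_units_smul, Linear.units_smul_comp]

/-- Injectivity on `Hom(P, -)` for `P` in degrees `≤ n`. -/
theorem injective_hom_of_isLE (q : ℤ) [P.IsLE q]
    (h1 : ∀ i : ℤ, i < n → IsIso ((homologyFunctor A i).map φ))
    (h2 : Mono ((homologyFunctor A n).map φ)) (hq : q ≤ n) :
    Function.Injective (fun x : P ⟶ K => x ≫ φ) := by
  obtain ⟨C, g, δ, hT⟩ := distinguished_cocone_triangle φ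
  have hC := isGE_cone φ n h1 h2 g δ hT
  have key : ∀ x : P ⟶ K, x ≫ φ = 0 → x = 0 := by
    intro x hx
    obtain ⟨y, hy⟩ := Triangle.coyoneda_exact₂ _ (inv_rot_of_distTriang _ hT) x hx
    have h3 : (C⟦(-1 : ℤ)⟧).IsGE (n + 1) := TStructure.t.isGE_shift C n (-1) (n + 1) (by lia)
    have h5 : ∀ y : P ⟶ C⟦(-1 : ℤ)⟧, y = 0 := fun y => TStructure.t.zero y q (n + 1) (by lia)
    have h4 : y = 0 := h5 y
    rw [hy, h4]
    exact zero_comp
  intro x y hxy
  have := key (x - y) (by rw [Preadditive.sub_comp]; exact sub_eq_zero.2 hxy)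
  exact sub_eq_zero.1 this

/-- Surjectivity on `Hom(P, -)` for `P` in degrees `< n`. -/
theorem surjective_hom_of_isLE (q : ℤ) [P.IsLE q]
    (h1 : ∀ i : ℤ, i < n → IsIso ((homologyFunctor A i).map φ))
    (h2 : Mono ((homologyFunctor A n).map φ)) (hq : q < n) :
    Function.Surjective (fun x : P ⟶ K => x ≫ φ) := by
  obtain ⟨C, g, δ, hT⟩ := distinguished_cocone_triangle φ
  have hC := isGE_cone φ n h1 h2 g δ hT
  intro y
  obtain ⟨x, hx⟩ := Triangle.coyoneda_exact₂ _ hT y (TStructure.t.zero (y ≫ g) q n hq)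
  exact ⟨x, hx.symm⟩

/-- Injectivity on `Hom(P, -⟦q⟧)`, `q ≤ n`. -/
theorem injective_hom_of_range [P.IsLE 0]
    (h1 : ∀ i : ℤ, i < n → IsIso ((homologyFunctor A i).map φ))
    (h2 : Mono ((homologyFunctor A n).map φ)) (q : ℤ) (hq : q ≤ n) :
    Function.Injective (fun x : P ⟶ K⟦q⟧ => x ≫ φ⟦q⟧') := by
  obtain ⟨C, g, δ, hT⟩ := distinguished_cocone_triangle φ
  have hC := isGE_cone φ n h1 h2 g δ hT
  have key : ∀ x : P ⟶ K⟦q⟧, x ≫ φ⟦q⟧' = 0 → x = 0 := by
    intro x hx
    obtain ⟨y, hy⟩ := exists_lift_shift _ _ _ (inv_rot_of_distTriang _ hT) q x hx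
    have h3 : ((C⟦(-1 : ℤ)⟧)⟦q⟧).IsGE (n + 1 - q) := by
      have : (C⟦(-1 : ℤ)⟧).IsGE (n + 1) := TStructure.t.isGE_shift C n (-1) (n + 1) (by lia)
      exact TStructure.t.isGE_shift (C⟦(-1 : ℤ)⟧) (n + 1) q (n + 1 - q) (by lia)
    have h5 : ∀ y : P ⟶ (C⟦(-1 : ℤ)⟧)⟦q⟧, y = 0 := fun y => TStructure.t.zero y 0 (n + 1 - q) (by lia)
    have h4 : y = 0 := h5 y
    rw [← hy, h4]
    exact zero_comp
  intro x y hxy
  have := key (x - y) (by rw [Preadditive.sub_comp]; exact sub_eq_zero.2 hxy)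
  exact sub_eq_zero.1 this

/-- Surjectivity on `Hom(P, -⟦q⟧)`, `q < n`. -/
theorem surjective_hom_of_range [P.IsLE 0]
    (h1 : ∀ i : ℤ, i < n → IsIso ((homologyFunctor A i).map φ))
    (h2 : Mono ((homologyFunctor A n).map φ)) (q : ℤ) (hq : q < n) :
    Function.Surjective (fun x : P ⟶ K⟦q⟧ => x ≫ φ⟦q⟧') := by
  obtain ⟨C, g, δ, hT⟩ := distinguished_cocone_triangle φ
  have hC := isGE_cone φ n h1 h2 g δ hT
  intro y
  have h3 : (C⟦q⟧).IsGE (n - q) := TStructure.t.isGE_shift C n q (n - q) (by lia)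
  exact exists_lift_shift _ _ _ hT q y (TStructure.t.zero _ 0 (n - q) (by lia))

end range

end Groth.Agent.Etbc.H181.HyperExt
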