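import Groth.Agent.Etbc.H181.HyperExt
import Groth.Agent.Etrest.DEtMate
import Groth.Agent.Etcore.HpullCalc
import Groth.Prelude.Def_EtBCD

/-!
# Comparison maps on the cohomology of complexes of etale sheaves, and derived direct images

For `u : Y ⟶ X` and `K : DCoh.DEt X`, `CompD u m K`: `Hom(ℤ_X, K⟦q⟧) → Hom(u⁻¹ ℤ_X, u⁻¹ (K⟦q⟧))` is bijective for
`q ≤ m` and injective for `q = m + 1`.
* `compD_single_iff`: for a single sheaf this is the statement on `EtCore.Hpull`.
* `compD_of_homology`: truncation dévissage.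
* `compD_pushD`: for a commutative square `hb ≫ p = pY ≫ h`, from the range for `hb, K` and for the
  base change transformation `bcEt` at `K` to the range for `h, Rp_* K`.
-/

set_option autoImplicit false
universe u

open CategoryTheory CategoryTheory.Limits Opposite AlgebraicGeometry

attribute [local instance] HasDerivedCategory.standard

namespace Groth.Agent.Etbc.H181.HyperPush

open HyperDev HyperExt DerivedCategory Groth.Agent.Etrest.RDer5

section abs

variable {C D C₂ D₂ : Type*} [Category* C] [Category* D] [Category* C₂] [Category* D₂]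
  {L : D ⥤ C} {G : C ⥤ D} (adj : L ⊣ G) {L₂ : D₂ ⥤ C₂} {G₂ : C₂ ⥤ D₂} (adj₂ : L₂ ⊣ G₂)
  {E : C ⥤ C₂} {E' : D ⥤ D₂} (c : E' ⋙ L₂ ≅ L ⋙ E) {M : D} {X : C}

include c adj adj₂ in
/-- Injectivity for `E` on `Hom(L M, X)` gives injectivity for `E'` on `Hom(M, G X)`. -/
theorem mapInj_right (h : MapInj E (L.obj M) X) : MapInj E' M (G.obj X) := by
  intro x y hxy
  obtain ⟨x, rfl⟩ := (adj.homEquiv _ _).surjective x
  obtain ⟨y, rfl⟩ := (adj.homEquiv _ _).surjective y
  have h1 := mate_transpose' adj adj₂ c.hom x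
  have h2 := mate_transpose' adj adj₂ c.hom y
  rw [hxy, h2] at h1
  have h3 := (adj₂.homEquiv _ _).injective h1
  rw [cancel_epi] at h3
  rw [h h3]

/-- Surjectivity for `E` on `Hom(L M, X)` and injectivity of the composition with the mate gives surjectivity
for `E'` on `Hom(M, G X)`. -/
theorem mapSurj_right (h : MapSurj E (L.obj M) X)
    (hm : Function.Injective (fun x : E'.obj M ⟶ E'.obj (G.obj X) => x ≫ (mate adj adj₂ c.hom).app X)) :
    MapSurj E' M (G.obj X) := by
  intro y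
  obtain ⟨z, hz⟩ := (adj₂.homEquiv _ _).surjective (y ≫ (mate adj adj₂ c.hom).app X)
  obtain ⟨x, hx⟩ := h (c.inv.app M ≫ z)
  refine ⟨adj.homEquiv _ _ x, hm ?_⟩
  dsimp only
  rw [mate_transpose' adj adj₂ c.hom x, hx, ← hz, Iso.hom_inv_id_app_assoc]

end abs

open Groth.Agent.Etrest.DEtPush Groth.Agent.Etrest.DEtMate

variable {X Y Xb Yb : Scheme.{u}}

/-- The comparison condition for the cohomology of a complex of etale sheaves. -/
def CompD (u : Y ⟶ X) (m : ℤ) (K : DCoh.DEt X) : Prop :=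
  Comp (pullD u) (EtBC.single X (EtCoh.const X ℤ)) m K

theorem CompD.of_iso {u : Y ⟶ X} {m : ℤ} {K L : DCoh.DEt X} (h : CompD u m K) (e : K ≅ L) :
    CompD u m L := Comp.of_iso h e

theorem CompD.of_triangle {u : Y ⟶ X} {m : ℤ} (T : Pretriangulated.Triangle (DCoh.DEt X))
    (hT : T ∈ Pretriangulated.distinguishedTriangles) (h1 : CompD u m T.obj₁) (h3 : CompD u m T.obj₃) :
    CompD u m T.obj₂ := Comp.of_triangle T hT h1 h3

theorem CompD.mono {u : Y ⟶ X} {m m' : ℤ} {K : DCoh.DEt X} (h : CompD u m K) (hm : m' ≤ m) :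
    CompD u m' K := Comp.mono h hm

/-- Direct images and the comparison condition. -/
theorem compD_pushD {h : Y ⟶ X} {p : Xb ⟶ X} {hb : Yb ⟶ Xb} {pY : Yb ⟶ Y} (w : hb ≫ p = pY ≫ h)
    (K : DCoh.DEt Xb) (n m : ℤ) (hK : CompD hb m K)
    (h1 : ∀ i : ℤ, i < n → IsIso ((homologyFunctor _ i).map ((bcEt w).app K)))
    (h2 : Mono ((homologyFunctor _ n).map ((bcEt w).app K))) (hm : m ≤ n) :
    CompD h m ((pushD p).obj K) := by
  let M : DCoh.DEt X := EtBC.single X (EtCoh.const X ℤ)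
  let eM : EtBC.single Xb (EtCoh.const Xb ℤ) ≅ (pullD p).obj M :=
    (singleFunctor (EtCoh.Ab Xb) 0).mapIso (EtCore.pullConst p ℤ).symm ≪≫
      ((EtCoh.pull p).mapDerivedCategorySingleFunctor 0).symm.app (EtCoh.const X ℤ)
  have hK' : Comp (pullD hb) ((pullD p).obj M) m K := Comp.of_iso_left hK eM
  have e : ∀ q : ℤ, ((pullD p).obj M)⟦(-q)⟧ ≅ (pullD p).obj (M⟦(-q)⟧) := fun q =>
    (((pullD p).commShiftIso (-q)).app M).symm
  refine ⟨fun q hq => ?_, fun q hq => ?_⟩
  · refine (mapInj_shift_iff q).2 ?_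
    refine mapInj_right (dPullPush p) (dPullPush pY) (cmpD w) ?_
    exact ((mapInj_shift_iff q).1 (hK'.inj q hq)).of_iso_left (e q)
  · refine (mapSurj_shift_iff q).2 ?_
    refine mapSurj_right (dPullPush p) (dPullPush pY) (cmpD w) ?_ ?_
    · exact ((mapSurj_shift_iff q).1 (hK'.surj q hq)).of_iso_left (e q)
    · rw [← bcEt_eq_mate]
      have h3 : (M⟦(-q)⟧).IsLE q := TStructure.t.isLE_shift M 0 (-q) q (by lia)
      have h4 : ((pullD h).obj (M⟦(-q)⟧)).IsLE q := isLE_mapDerivedCategory (EtCoh.pull h) _ q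
      exact injective_hom_of_isLE ((bcEt w).app K) n q h1 h2 (by lia)

end Groth.Agent.Etbc.H181.HyperPush
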